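import Groth.Agent.WeakAssSch.Regular
import Groth.Prelude.Def_MeroDiv

/-!
# Elementary facts about meromorphic functions
-/

set_option autoImplicit false
set_option maxHeartbeats 400000

universe u

open CategoryTheory AlgebraicGeometry TopologicalSpace

namespace Groth.Agent.Mero

open _root_.Mero

variable {X : Scheme.{u}}

lemma mk_eq_zero_iff {x : X} (a : X.presheaf.stalk x) (s : regStalk X x) :
    (LocalizedModule.mk a s : KStalk X x) = 0 ↔ a = 0 := by
  constructor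
  · intro h
    obtain ⟨c, hc⟩ := WeakAss.mk_eq_zero (regStalk X x) |>.mp h
    exact mem_nonZeroDivisors_iff_left.mp (regStalk_le_nonZeroDivisors x c.2) a hc
  · rintro rfl
    exact LocalizedModule.zero_mk s

lemma algebraMap_eq_mk {x : X} (a : X.presheaf.stalk x) :
    algebraMap (X.presheaf.stalk x) (KStalk X x) a = LocalizedModule.mk a 1 :=
  (Localization.mk_one_eq_algebraMap a).symm

lemma mk_eq_mk_iff {x : X} (a a' : X.presheaf.stalk x) (s s' : regStalk X x) :
    (LocalizedModule.mk a s : KStalk X x) = LocalizedModule.mk a' s' ↔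
      (s' : X.presheaf.stalk x) * a = (s : X.presheaf.stalk x) * a' := by
  rw [LocalizedModule.mk_eq]
  constructor
  · rintro ⟨c, hc⟩
    simp only [Submonoid.smul_def, smul_eq_mul] at hc
    exact (mul_cancel_left_mem_nonZeroDivisors (regStalk_le_nonZeroDivisors x c.2)).mp hc
  · intro h
    exact ⟨1, by simpa [Submonoid.smul_def] using h⟩

/-- A meromorphic function is, near each point, a fraction on a small affine open. -/
lemma exists_fraction {U : X.Opens} (f : Γ(kmod X, U)) (x : X) (hx : x ∈ U) :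
    ∃ (V : X.affineOpens) (_ : x ∈ V.1) (hV : V.1 ≤ U) (a : Γ(X, V.1)) (b : regSub X V.1),
      ∀ y : (V.1 : X.Opens), f.1 ⟨y.1, hV y.2⟩ =
        LocalizedModule.mk (X.presheaf.germ V.1 y.1 y.2 a) (regGerm y b) := by
  obtain ⟨W, hW, i, a, b, w⟩ := f.2 ⟨x, hx⟩
  obtain ⟨V, hxV, hle⟩ := IdealSh.Comap.exists_affine_le x W hW
  refine ⟨V, hxV, hle.trans i.le, X.presheaf.map (homOfLE hle).op a,
    ⟨X.presheaf.map (homOfLE hle).op b.1, regSub_res _ b.2⟩, fun y => ?_⟩
  refine (w ⟨y.1, hle y.2⟩).trans (mk_congr ?_ ?_)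
  · exact (X.presheaf.germ_res_apply (homOfLE hle) y.1 y.2 a).symm
  · exact (X.presheaf.germ_res_apply (homOfLE hle) y.1 y.2 b.1).symm

/-- A germ of a nonzerodivisor with a neighbourhood on which it is invertible at all weakly
associated points is a regular germ. -/
lemma germ_mem_regStalk_of_isUnit {U : X.Opens} (a : Γ(X, U))
    (h : ∀ (z : X) (hz : z ∈ U), Curv2.IsWeakAssPoint (Coh.structureModule X) z →
      IsUnit (X.presheaf.germ U z hz a)) (x : X) (hx : x ∈ U) :
    X.presheaf.germ U x hx a ∈ regStalk X x :=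
  ⟨U, hx, a, fun z => WeakAssSch.germ_mem_nonZeroDivisors_of_isUnit a h z.1 z.2, rfl⟩

/-- Schematic density spreads to meromorphic functions. -/
lemma eq_zero_of_dense {U V : X.Opens} (hVU : V ≤ U)
    (hV : ∀ W : X.Opens, W ≤ U → Function.Injective
      (X.presheaf.map (homOfLE (inf_le_left : W ⊓ V ≤ W)).op))
    (f : Γ(kmod X, U)) (hf : ∀ (x : X) (hx : x ∈ V), f.1 ⟨x, hVU hx⟩ = 0) : f = 0 := by
  refine Subtype.ext (funext fun x => ?_)
  obtain ⟨W, hxW, hW, a, b, w⟩ := exists_fraction f x.1 x.2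
  have ha : a = 0 := by
    refine hV W.1 hW ?_
    rw [map_zero]
    refine TopCat.Presheaf.section_ext X.sheaf _ _ _ fun y hy => ?_
    refine ((X.presheaf.germ_res_apply (homOfLE inf_le_left) y hy a).trans ?_).trans
      (map_zero _).symm
    have h1 := hf y hy.2
    rw [w ⟨y, hy.1⟩, mk_eq_zero_iff] at h1
    exact h1
  rw [w ⟨x.1, hxW⟩, ha, map_zero]
  exact LocalizedModule.zero_mk _

/-- The set where a meromorphic function is regular. -/
def defDomain {U : X.Opens} (f : Γ(kmod X, U)) : Set X :=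
  {x | ∃ hx : x ∈ U, f.1 ⟨x, hx⟩ ∈ (algebraMap (X.presheaf.stalk x) (KStalk X x)).range}

lemma mem_range_of_isUnit {U : X.Opens} {f : Γ(kmod X, U)} {V : X.Opens} (hV : V ≤ U)
    {a : Γ(X, V)} {b : regSub X V}
    (w : ∀ y : V, f.1 ⟨y.1, hV y.2⟩ =
      LocalizedModule.mk (X.presheaf.germ V y.1 y.2 a) (regGerm y b))
    (y : V) (hu : IsUnit (X.presheaf.germ V y.1 y.2 b.1)) :
    f.1 ⟨y.1, hV y.2⟩ ∈ (algebraMap (X.presheaf.stalk y.1) (KStalk X y.1)).range := by
  obtain ⟨c, hc⟩ := hu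
  refine ⟨(↑c⁻¹ : X.presheaf.stalk y.1) * X.presheaf.germ V y.1 y.2 a, ?_⟩
  rw [w y, algebraMap_eq_mk, mk_eq_mk_iff]
  simp [regGerm, ← hc]

lemma isOpen_defDomain {U : X.Opens} (f : Γ(kmod X, U)) : IsOpen (defDomain f) := by
  rw [isOpen_iff_forall_mem_open]
  rintro x ⟨hxU, r, hr⟩
  obtain ⟨V, hxV, hV, a, b, w⟩ := exists_fraction f x hxU
  obtain ⟨W, hxW, r, rfl⟩ := X.presheaf.exists_germ_eq (x := x) r
  have hr' : f.1 ⟨x, hV hxV⟩ = algebraMap _ _ (X.presheaf.germ W x hxW r) := hr.symm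
  rw [w ⟨x, hxV⟩, algebraMap_eq_mk, mk_eq_mk_iff, OneMemClass.coe_one, one_mul] at hr'
  have hI : x ∈ V.1 ⊓ W := ⟨hxV, hxW⟩
  have h2 : X.presheaf.germ (V.1 ⊓ W) x hI (X.presheaf.map (homOfLE inf_le_left).op a) =
      X.presheaf.germ (V.1 ⊓ W) x hI (X.presheaf.map (homOfLE inf_le_left).op b.1 *
        X.presheaf.map (homOfLE inf_le_right).op r) := by
    rw [map_mul, TopCat.Presheaf.germ_res_apply, TopCat.Presheaf.germ_res_apply,
      TopCat.Presheaf.germ_res_apply]
    exact hr'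
  obtain ⟨N, hxN, i, j, e⟩ := TopCat.Presheaf.germ_eq _ x hI hI _ _ h2
  refine ⟨N, fun y hy => ?_, N.2, hxN⟩
  have hyI := i.le hy
  refine ⟨hV hyI.1, X.presheaf.germ W y hyI.2 r, ?_⟩
  rw [w ⟨y, hyI.1⟩, algebraMap_eq_mk, mk_eq_mk_iff, OneMemClass.coe_one, one_mul]
  have e2 := congrArg (X.presheaf.germ N y hy) e
  simp only [TopCat.Presheaf.germ_res_apply, map_mul] at e2
  exact e2.symm

lemma injective_res_defDomain {U : X.Opens} (f : Γ(kmod X, U)) (V : X.Opens) (hVU : V ≤ U) :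
    Function.Injective (X.presheaf.map (homOfLE (inf_le_left :
      V ⊓ ⟨defDomain f, isOpen_defDomain f⟩ ≤ V)).op) := by
  rw [injective_iff_map_eq_zero]
  intro s hs
  refine TopCat.Presheaf.section_ext X.sheaf _ _ _ fun x hx => ?_
  obtain ⟨W, hxW, hW, a, b, w⟩ := exists_fraction f x (hVU hx)
  obtain ⟨W', hxW', hle⟩ := IdealSh.Comap.exists_affine_le x (V ⊓ W.1) ⟨hx, hxW⟩
  have hle₁ : W'.1 ≤ V := hle.trans inf_le_left
  have hle₂ : W'.1 ≤ W.1 := hle.trans inf_le_right
  have h0 : X.presheaf.map (homOfLE hle₁).op s = 0 := by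
    refine IdealSh.Regular.eq_zero_of_restrict_basicOpen W'.2
      (e := X.presheaf.map (homOfLE hle₂).op b.1)
      (IdealSh.Regular.mem_nonZeroDivisors_of_germ fun y hy => ?_) ?_
    · rw [TopCat.Presheaf.germ_res_apply]
      exact b.2 ⟨y, hle₂ hy⟩
    · refine TopCat.Presheaf.section_ext X.sheaf _ _ _ fun y hy => ?_
      have hyW' := X.basicOpen_le _ hy
      have hu := (Scheme.mem_basicOpen _ _ y hyW').mp hy
      rw [TopCat.Presheaf.germ_res_apply] at hu
      have hyD : y ∈ V ⊓ (⟨defDomain f, isOpen_defDomain f⟩ : X.Opens) :=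
        ⟨hle₁ hyW', hW (hle₂ hyW'), mem_range_of_isUnit hW w ⟨y, hle₂ hyW'⟩ hu⟩
      refine Eq.trans ?_ (map_zero (X.presheaf.germ _ y hy).hom).symm
      refine (X.presheaf.germ_res_apply _ y hy _).trans ?_
      refine (X.presheaf.germ_res_apply _ y hyW' s).trans ?_
      have e := congrArg (X.presheaf.germ _ y hyD) hs
      rw [TopCat.Presheaf.germ_res_apply, map_zero] at e
      exact e
  refine ((X.presheaf.germ_res_apply (homOfLE hle₁) x hxW' s).symm.trans ?_)
  rw [h0, map_zero]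
  exact (map_zero _).symm

/-- A meromorphic function vanishing where `h` is invertible is killed by a power of `h`, locally. -/
lemma exists_pow_mul_eq_zero {h : Γ(X, ⊤)} {f : Γ(kmod X, ⊤)}
    (hf : ∀ (x : X), x ∈ X.basicOpen h → f.1 ⟨x, trivial⟩ = 0) (x : X) :
    ∃ (V : X.Opens) (n : ℕ), x ∈ V ∧ ∀ y : X, y ∈ V → ∀ m, n ≤ m →
      (toK X ⊤ h ^ m * f).1 ⟨y, trivial⟩ = 0 := by
  obtain ⟨V, hxV, hV, a, b, w⟩ := exists_fraction f x trivial
  set h' := X.presheaf.map (homOfLE (le_top : V.1 ≤ ⊤)).op h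
  have h0 : X.presheaf.map (homOfLE (X.basicOpen_le h')).op a = 0 := by
    refine TopCat.Presheaf.section_ext X.sheaf _ _ _ fun y hy => ?_
    refine Eq.trans ?_ (map_zero (X.presheaf.germ _ y hy).hom).symm
    refine (X.presheaf.germ_res_apply _ y hy a).trans ?_
    have hy' : y ∈ X.basicOpen h := by
      rw [Scheme.basicOpen_res] at hy; exact hy.2
    have e := hf y hy'
    rw [show (⟨y, trivial⟩ : (⊤ : X.Opens)) = ⟨y, hV (X.basicOpen_le h' hy)⟩ from rfl,
      w ⟨y, X.basicOpen_le h' hy⟩, mk_eq_zero_iff] at e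
    exact e
  obtain ⟨n, hn⟩ := exists_pow_mul_eq_zero_of_res_basicOpen_eq_zero_of_isCompact X
    (U := V.1) V.2.isCompact a h' h0
  refine ⟨V.1, n, hxV, fun y hy m hm => ?_⟩
  obtain ⟨k, rfl⟩ := Nat.exists_eq_add_of_le hm
  have e := congrArg (X.presheaf.germ V.1 y hy) hn
  rw [map_mul, map_pow, map_zero, TopCat.Presheaf.germ_res_apply] at e
  rw [kmod_mul_apply, ← map_pow, toK_apply,
    show (⟨y, trivial⟩ : (⊤ : X.Opens)) = ⟨y, hV hy⟩ from rfl, w ⟨y, hy⟩]
  refine (LocalizedModule.mk_mul_mk).trans ((mk_eq_zero_iff _ _).mpr ?_)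
  rw [map_pow, pow_add, mul_right_comm, e, zero_mul]

/-- On a locally Noetherian scheme every regular germ extends to a regular section. -/
lemma regStalk_eq [IsLocallyNoetherian X] (x : X) :
    regStalk X x = nonZeroDivisors (X.presheaf.stalk x) := by
  refine le_antisymm (regStalk_le_nonZeroDivisors x) fun g hg => ?_
  obtain ⟨V, hxV, -⟩ := IdealSh.Comap.exists_affine_le x ⊤ trivial
  have hN : IsNoetherianRing Γ(X, V.1) := IsLocallyNoetherian.component_noetherian V
  letI := X.presheaf.algebra_section_stalk ⟨x, hxV⟩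
  set p := (V.2.primeIdealOf ⟨x, hxV⟩).asIdeal
  have hloc : IsLocalization.AtPrime (X.presheaf.stalk x) p := V.2.isLocalization_stalk ⟨x, hxV⟩
  obtain ⟨⟨a, c⟩, hac⟩ := IsLocalization.surj p.primeCompl g
  have hcu : IsUnit (algebraMap Γ(X, V.1) (X.presheaf.stalk x) c) :=
    IsLocalization.map_units _ c
  have hga : algebraMap Γ(X, V.1) (X.presheaf.stalk x) a ∈ nonZeroDivisors (X.presheaf.stalk x) :=
    hac ▸ Submonoid.mul_mem _ hg hcu.mem_nonZeroDivisors
  obtain ⟨K, hK⟩ := IsNoetherian.noetherian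
    (LinearMap.ker (LinearMap.mulLeft Γ(X, V.1) a))
  have hk : ∀ k ∈ K, ∃ s : p.primeCompl, (s : Γ(X, V.1)) * k = 0 := by
    intro k hk
    have hak : a * k = 0 := (hK ▸ Submodule.subset_span hk :
      k ∈ LinearMap.ker (LinearMap.mulLeft Γ(X, V.1) a))
    have : algebraMap Γ(X, V.1) (X.presheaf.stalk x) k = 0 :=
      mem_nonZeroDivisors_iff_left.mp hga _ (by rw [← map_mul, hak, map_zero])
    exact (IsLocalization.map_eq_zero_iff p.primeCompl _ k).mp this
  choose! s hs using hk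
  classical
  set t : p.primeCompl := ∏ k ∈ K, s k
  have ht : ∀ k, a * k = 0 → (t : Γ(X, V.1)) * k = 0 := by
    intro k hk
    have hmem : k ∈ Submodule.span Γ(X, V.1) (K : Set Γ(X, V.1)) := by
      rw [hK]; exact hk
    clear hk
    induction hmem using Submodule.span_induction with
    | mem k hk =>
      obtain ⟨d, hd⟩ := Finset.dvd_prod_of_mem s hk
      rw [show (t : Γ(X, V.1)) = (s k : Γ(X, V.1)) * d from congrArg Subtype.val hd,
        mul_right_comm, hs k hk, zero_mul]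
    | zero => simp
    | add u v _ _ hu hv => rw [mul_add, hu, hv, add_zero]
    | smul r u _ hu => rw [smul_eq_mul, mul_left_comm, hu, mul_zero]
  have hxD : x ∈ X.basicOpen (t : Γ(X, V.1)) :=
    (Scheme.mem_basicOpen _ _ x hxV).mpr (IsLocalization.map_units (X.presheaf.stalk x) t)
  set a' := X.presheaf.map (homOfLE (X.basicOpen_le (t : Γ(X, V.1)))).op a
  have hreg : a' ∈ regSub X (X.basicOpen (t : Γ(X, V.1))) := by
    intro y
    have hyV := X.basicOpen_le _ y.2
    letI := X.presheaf.algebra_section_stalk ⟨y.1, hyV⟩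
    have hlocy : IsLocalization.AtPrime (X.presheaf.stalk y.1)
        (V.2.primeIdealOf ⟨y.1, hyV⟩).asIdeal := V.2.isLocalization_stalk ⟨y.1, hyV⟩
    rw [TopCat.Presheaf.germ_res_apply, mem_nonZeroDivisors_iff_left]
    intro z hz
    obtain ⟨⟨k, d⟩, hkd⟩ := IsLocalization.surj (V.2.primeIdealOf ⟨y.1, hyV⟩).asIdeal.primeCompl z
    have h0 : algebraMap Γ(X, V.1) (X.presheaf.stalk y.1) (a * k) = 0 := by
      rw [map_mul, ← hkd, ← mul_assoc]
      exact mul_eq_zero_of_left hz _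
    obtain ⟨e, he⟩ := (IsLocalization.map_eq_zero_iff
      (V.2.primeIdealOf ⟨y.1, hyV⟩).asIdeal.primeCompl _ _).mp h0
    have h2 := congrArg (algebraMap Γ(X, V.1) (X.presheaf.stalk y.1))
      (ht ((e : Γ(X, V.1)) * k) (by rw [mul_left_comm]; exact he))
    rw [map_mul, map_mul, map_zero, ← hkd] at h2
    have hut : IsUnit (algebraMap Γ(X, V.1) (X.presheaf.stalk y.1) t) :=
      (Scheme.mem_basicOpen _ _ y.1 hyV).mp y.2
    have hue : IsUnit (algebraMap Γ(X, V.1) (X.presheaf.stalk y.1) e) :=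
      IsLocalization.map_units _ e
    have hud : IsUnit (algebraMap Γ(X, V.1) (X.presheaf.stalk y.1) d) :=
      IsLocalization.map_units _ d
    exact hud.mul_left_eq_zero.mp (hue.mul_right_eq_zero.mp (hut.mul_right_eq_zero.mp h2))
  obtain ⟨W, hxW, w, hw⟩ := X.presheaf.exists_germ_eq (x := x) (↑hcu.unit⁻¹ : X.presheaf.stalk x)
  have hxWu : x ∈ X.basicOpen w :=
    (Scheme.mem_basicOpen _ _ x hxW).mpr (by rw [hw]; exact Units.isUnit _)
  set N := X.basicOpen (t : Γ(X, V.1)) ⊓ X.basicOpen w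
  refine ⟨N, ⟨hxD, hxWu⟩, X.presheaf.map (homOfLE (inf_le_left : N ≤ _)).op a' *
    X.presheaf.map (homOfLE (inf_le_right.trans (X.basicOpen_le w) : N ≤ W)).op w, fun y => ?_, ?_⟩
  · rw [map_mul, X.presheaf.germ_res_apply _ y.1 y.2 w, X.presheaf.germ_res_apply _ y.1 y.2 a',
      X.presheaf.germ_res_apply _ y.1 _ a]
    have h3 := hreg ⟨y.1, y.2.1⟩
    rw [TopCat.Presheaf.germ_res_apply] at h3
    exact Submonoid.mul_mem _ h3
      ((Scheme.mem_basicOpen _ _ y.1 _).mp y.2.2).mem_nonZeroDivisors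
  · rw [map_mul, TopCat.Presheaf.germ_res_apply, TopCat.Presheaf.germ_res_apply,
      TopCat.Presheaf.germ_res_apply, hw]
    change algebraMap Γ(X, V.1) (X.presheaf.stalk x) a * _ = _
    rw [← hac]
    rw [mul_assoc, IsUnit.mul_val_inv, mul_one]

end Groth.Agent.Mero
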